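import Groth.Agent.HenselBranchLib.EtCovBase
import Groth.Agent.HenselLib.HenselizationExists
import Groth.Agent.HenselLib.FiniteLocalProd
import Groth.Agent.QfHensFiniteLib.Basic
import Groth.Agent.S0507
import Groth.Agent.S0511
import Groth.Prelude.Def_Hensel

/-! Henselizations of essentially finite type local rings and finite local homomorphisms. -/

set_option linter.unusedSectionVars false

universe u

open IsLocalRing

namespace HensFiniteTransferLib

/-- `C` is the henselization of a local ring essentially of finite type over `A`. -/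
def IsEssHens (A C : Type u) [CommRing A] [CommRing C] [IsLocalRing C] [Algebra A C] : Prop :=
  ∃ (B : Type u) (_ : CommRing B) (_ : Algebra A B) (_ : Algebra.FiniteType A B) (p : Ideal B) (_ : p.IsPrime)
    (_ : Algebra (Localization.AtPrime p) C) (_ : IsScalarTower A (Localization.AtPrime p) C)
    (_ : IsLocalHom (algebraMap (Localization.AtPrime p) C)), Hensel.IsHenselization (Localization.AtPrime p) C

theorem comap_atPrime {B : Type u} [CommRing B] (p : Ideal B) [p.IsPrime] {C : Type u} [CommRing C] [IsLocalRing C]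
    (f : Localization.AtPrime p →+* C) [IsLocalHom f] :
    (maximalIdeal C).comap (f.comp (algebraMap B (Localization.AtPrime p))) = p := by
  rw [← Ideal.comap_comap, ((IsLocalRing.local_hom_TFAE f).out 0 4 :).1 inferInstance]
  exact IsLocalization.AtPrime.comap_maximalIdeal (Localization.AtPrime p) p

/-- A map out of a localization at a prime is local if the prime is the pullback of the maximal ideal. -/
theorem exists_localHom {B : Type u} [CommRing B] (p : Ideal B) [p.IsPrime] {C : Type u} [CommRing C] [IsLocalRing C]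
    (f : B →+* C) (hf : (maximalIdeal C).comap f = p) :
    ∃ F : Localization.AtPrime p →+* C, F.comp (algebraMap B (Localization.AtPrime p)) = f ∧ IsLocalHom F := by
  have hu : ∀ y : p.primeCompl, IsUnit (f y) := fun y => by
    by_contra h
    exact y.2 (hf.le ((IsLocalRing.mem_maximalIdeal _).2 h))
  refine ⟨IsLocalization.lift hu, IsLocalization.lift_comp hu, ⟨fun z hz => ?_⟩⟩
  obtain ⟨b, s, rfl⟩ := IsLocalization.exists_mk'_eq p.primeCompl z
  rw [IsLocalization.AtPrime.isUnit_mk'_iff]
  intro hb
  rw [IsLocalization.lift_mk', Units.isUnit_mul_units] at hz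
  exact (IsLocalRing.mem_maximalIdeal _).1 (hf.ge hb : b ∈ (maximalIdeal C).comap f) hz

theorem finite_helper {H C : Type u} [CommRing H] [CommRing C] [Algebra H C] [Module.Finite H C] :
    ∃ (n : ℕ) (x : Fin n → C), Function.Surjective (MvPolynomial.aeval (R := H) x) := by
  obtain ⟨s, hs⟩ := (Algebra.FiniteType.out : (⊤ : Subalgebra H C).FG)
  refine ⟨s.card, fun i => (s.equivFin.symm i : C), ?_⟩
  rw [← AlgHom.range_eq_top, ← Algebra.adjoin_range_eq_range_aeval, eq_top_iff, ← hs]
  refine Algebra.adjoin_mono fun a ha => ⟨s.equivFin ⟨a, ha⟩, by simp⟩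

set_option maxHeartbeats 1000000 in
/-- A local algebra finite over the henselization of a local ring essentially of finite type is itself such a
henselization. -/
theorem isEssHens_of_finite (A H C : Type u) [CommRing A] [CommRing H] [IsLocalRing H] [Algebra A H]
    [CommRing C] [IsLocalRing C] [Algebra A C] [Algebra H C] [IsScalarTower A H C] [Module.Finite H C]
    [IsNoetherianRing H] (hH : IsEssHens A H) : IsEssHens A C := by
  classical
  obtain ⟨B, _, _, _, p, _, algH, towH, locH, hensH⟩ := hH
  haveI := hensH.henselian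
  obtain ⟨hCh, hHC⟩ := QfHensFiniteLib.henselianLocalRing_of_finite (A := H) C
  letI : Algebra B H := ((algebraMap (Localization.AtPrime p) H).comp (algebraMap B (Localization.AtPrime p))).toAlgebra
  haveI : IsScalarTower B (Localization.AtPrime p) H := IsScalarTower.of_algebraMap_eq fun x => rfl
  haveI : IsScalarTower A B H := IsScalarTower.of_algebraMap_eq fun x => by
    rw [IsScalarTower.algebraMap_apply A (Localization.AtPrime p) H, IsScalarTower.algebraMap_apply A B (Localization.AtPrime p)]
    rfl
  obtain ⟨n, x, hx⟩ := finite_helper (H := H) (C := C)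
  haveI : IsNoetherianRing (MvPolynomial (Fin n) H) := inferInstance
  obtain ⟨G, hG⟩ := IsNoetherian.noetherian (RingHom.ker (MvPolynomial.aeval (R := H) x))
  let s : Finset H := G.biUnion fun g => g.support.image g.coeff
  obtain ⟨U, _, algU, etU, ξ, hξ⟩ := HenselLib.exists_etale_cover (R := B) s fun z _ =>
    HenselBranchLib.etCov_henselization_atPrime p H z
  have hlift : ∀ g ∈ G, ∃ g' : MvPolynomial (Fin n) U, MvPolynomial.map ξ.toRingHom g' = g := by
    intro g hg
    have hc : ∀ d, ∃ u : U, ξ u = g.coeff d := fun d => by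
      by_cases hd : d ∈ g.support
      · exact hξ _ (Finset.mem_biUnion.2 ⟨g, hg, Finset.mem_image.2 ⟨d, hd, rfl⟩⟩)
      · exact ⟨0, by rw [map_zero, MvPolynomial.notMem_support_iff.1 hd]⟩
    choose c hc using hc
    refine ⟨∑ d ∈ g.support, MvPolynomial.monomial d (c d), ?_⟩
    rw [map_sum]
    conv_rhs => rw [g.as_sum]
    exact Finset.sum_congr rfl fun d _ => by rw [MvPolynomial.map_monomial]; exact congrArg _ (hc d)
  choose g' hg' using hlift
  let J : Ideal (MvPolynomial (Fin n) U) := Ideal.span (Set.range fun g : G => g' g.1 g.2)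
  letI : Algebra A U := ((algebraMap B U).comp (algebraMap A B)).toAlgebra
  haveI : IsScalarTower A B U := IsScalarTower.of_algebraMap_eq fun x => rfl
  haveI : Algebra.FiniteType A U := Algebra.FiniteType.trans (S := B) inferInstance inferInstance
  haveI : IsScalarTower A U (MvPolynomial (Fin n) U) := inferInstance
  haveI : Algebra.FiniteType A (MvPolynomial (Fin n) U) :=
    Algebra.FiniteType.trans (S := U) inferInstance inferInstance
  haveI hDft : Algebra.FiniteType A (MvPolynomial (Fin n) U ⧸ J) :=
    Algebra.FiniteType.of_surjective (Ideal.Quotient.mkₐ A J) Ideal.Quotient.mk_surjective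
  let ψ : MvPolynomial (Fin n) U ⧸ J →+* C := Ideal.Quotient.lift J
    (MvPolynomial.eval₂Hom ((algebraMap H C).comp ξ.toRingHom) x) (fun z hz => by
      have hle : J ≤ RingHom.ker (MvPolynomial.eval₂Hom ((algebraMap H C).comp ξ.toRingHom) x) := by
        rw [Ideal.span_le]
        rintro _ ⟨g, rfl⟩
        rw [SetLike.mem_coe, RingHom.mem_ker, MvPolynomial.coe_eval₂Hom, ← MvPolynomial.eval₂_map, hg' g.1 g.2,
          ← MvPolynomial.aeval_def, ← RingHom.mem_ker, ← hG]
        exact Ideal.subset_span g.2
      exact hle hz)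
  have hψ : ∀ z, ψ (Ideal.Quotient.mk J z) = MvPolynomial.eval₂Hom ((algebraMap H C).comp ξ.toRingHom) x z :=
    fun z => rfl
  let Q : Ideal (MvPolynomial (Fin n) U ⧸ J) := (maximalIdeal C).comap ψ
  haveI : Q.IsPrime := Ideal.comap_isPrime ψ _
  obtain ⟨Ψ, hΨ, hΨloc⟩ := exists_localHom Q ψ rfl
  refine ⟨MvPolynomial (Fin n) U ⧸ J, inferInstance, inferInstance, hDft, Q, inferInstance, ?_⟩
  letI := Ψ.toAlgebra
  have hAC : ∀ a, ψ (Ideal.Quotient.mk J (MvPolynomial.C (algebraMap A U a))) = algebraMap A C a := fun a => by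
    rw [hψ, MvPolynomial.eval₂Hom_C, RingHom.comp_apply, show algebraMap A U a = algebraMap B U (algebraMap A B a) from rfl]
    rw [show ξ.toRingHom (algebraMap B U (algebraMap A B a)) = algebraMap B H (algebraMap A B a) from ξ.commutes _,
      ← IsScalarTower.algebraMap_apply A B H, ← IsScalarTower.algebraMap_apply A H C]
  haveI hT : IsScalarTower A (Localization.AtPrime Q) C := IsScalarTower.of_algebraMap_eq fun a => by
    rw [RingHom.algebraMap_toAlgebra, IsScalarTower.algebraMap_apply A (MvPolynomial (Fin n) U ⧸ J) (Localization.AtPrime Q),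
      show Ψ (algebraMap _ _ (algebraMap A (MvPolynomial (Fin n) U ⧸ J) a)) = ψ (algebraMap A _ a) from
        RingHom.congr_fun hΨ _]
    exact (hAC a).symm
  refine ⟨inferInstance, hT, hΨloc, ⟨hCh, fun T _ _ f hf => ?_⟩⟩
  -- the map on `D`
  haveI := hf
  set fD := f.comp (algebraMap (MvPolynomial (Fin n) U ⧸ J) (Localization.AtPrime Q)) with hfD
  have hfQ : (maximalIdeal T).comap fD = Q := comap_atPrime Q f
  let fU : U →+* T := fD.comp ((Ideal.Quotient.mk J).comp MvPolynomial.C)
  have hfUq : (maximalIdeal T).comap fU = (maximalIdeal H).comap ξ.toRingHom := by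
    rw [← Ideal.comap_comap, hfQ]
    ext u
    show ψ (Ideal.Quotient.mk J (MvPolynomial.C u)) ∈ maximalIdeal C ↔ ξ u ∈ maximalIdeal H
    rw [hψ, MvPolynomial.eval₂Hom_C, RingHom.comp_apply, IsLocalRing.mem_maximalIdeal, IsLocalRing.mem_maximalIdeal,
      mem_nonunits_iff, mem_nonunits_iff, isUnit_map_iff]
    rfl
  have hp : p = ((maximalIdeal H).comap ξ.toRingHom).comap (algebraMap B U) := by
    rw [Ideal.comap_comap, show ξ.toRingHom.comp (algebraMap B U) = algebraMap B H from ξ.comp_algebraMap]
    exact (HenselBranchLib.comap_maximalIdeal_hens p H).symm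
  obtain ⟨fp, hfp, hfploc⟩ := exists_localHom p (fU.comp (algebraMap B U)) (by
    rw [← Ideal.comap_comap, hfUq, ← hp])
  obtain ⟨gH, hgH, hgHu⟩ := hensH.universal T fp hfploc
  have hgB : ∀ b, gH (algebraMap B H b) = fU (algebraMap B U b) := fun b => by
    have := RingHom.congr_fun hgH (algebraMap B (Localization.AtPrime p) b)
    rw [RingHom.comp_apply, ← IsScalarTower.algebraMap_apply B (Localization.AtPrime p) H] at this
    exact this.trans (RingHom.congr_fun hfp b)
  haveI hgHloc : IsLocalHom gH := by
    refine ((IsLocalRing.local_hom_TFAE gH).out 0 4 :).2 (IsLocalRing.eq_maximalIdeal ?_)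
    have hle : (maximalIdeal H) ≤ (maximalIdeal T).comap gH := by
      rw [← Groth.Agent.S0507.result (Localization.AtPrime p) H, Ideal.map_le_iff_le_comap, Ideal.comap_comap, hgH,
        ((IsLocalRing.local_hom_TFAE fp).out 0 4 :).1 hfploc]
    rw [← (IsLocalRing.maximalIdeal.isMaximal H).eq_of_le (Ideal.comap_ne_top _
      (IsLocalRing.maximalIdeal.isMaximal T).ne_top) hle]
    exact IsLocalRing.maximalIdeal.isMaximal H
  -- the two maps on `U` agree
  letI algT : Algebra B T := (fU.comp (algebraMap B U)).toAlgebra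
  let f1 : U →ₐ[B] T := { fU with commutes' := fun b => rfl }
  let f2 : U →ₐ[B] T := { gH.comp ξ.toRingHom with
    commutes' := fun b => by
      show gH (ξ (algebraMap B U b)) = fU (algebraMap B U b)
      rw [ξ.commutes, hgB] }
  have hUeq : f1 = f2 := by
    refine HenselLib.algHom_ext_of_sub_mem (IsLocalRing.maximalIdeal_le_jacobson _) f1 f2 fun u => ?_
    set q := (maximalIdeal H).comap ξ.toRingHom with hq
    haveI : q.IsPrime := Ideal.comap_isPrime _ _
    have hbij := HenselBranchLib.bijective_residue p H U ξ q rfl hp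
    let L : ∀ h : U →+* T, (maximalIdeal T).comap h = q → (q.ResidueField →+* ResidueField T) := fun h hh =>
      Ideal.ResidueField.lift q ((residue T).comp h)
        (fun u hu => Ideal.Quotient.eq_zero_iff_mem.2 (hh.ge hu : h u ∈ maximalIdeal T))
        (fun u hu => show IsUnit _ from isUnit_iff_ne_zero.2 fun h0 => hu (hh.le ((IsLocalRing.residue_eq_zero_iff _).1 h0)))
    have h2q : (maximalIdeal T).comap (gH.comp ξ.toRingHom) = q := by
      rw [← Ideal.comap_comap, ((IsLocalRing.local_hom_TFAE gH).out 0 4 :).1 hgHloc]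
    have hL : ∀ h hh u, L h hh (algebraMap U q.ResidueField u) = residue T (h u) := fun h hh u =>
      Ideal.ResidueField.lift_algebraMap q _ _ _ u
    have key : L fU hfUq = L (gH.comp ξ.toRingHom) h2q := by
      refine RingHom.ext fun z => ?_
      obtain ⟨w, rfl⟩ := hbij.2 z
      refine RingHom.congr_fun (?_ : (L fU hfUq).comp _ = (L (gH.comp ξ.toRingHom) h2q).comp _) w
      refine Ideal.ResidueField.ringHom_ext (RingHom.ext fun b => ?_)
      simp only [RingHom.comp_apply, Ideal.ResidueField.map_algebraMap, hL]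
      exact congrArg (residue T) ((f1.commutes b).trans (f2.commutes b).symm)
    have := RingHom.congr_fun key (algebraMap U q.ResidueField u)
    rw [hL fU hfUq, hL _ h2q] at this
    exact Ideal.Quotient.eq.1 this
  have hU : ∀ u, fU u = gH (ξ u) := fun u => AlgHom.congr_fun hUeq u
  let y : Fin n → T := fun i => fD (Ideal.Quotient.mk J (MvPolynomial.X i))
  have hfev : ∀ z, fD (Ideal.Quotient.mk J z) = MvPolynomial.eval₂Hom gH y (MvPolynomial.map ξ.toRingHom z) := by
    intro z
    rw [MvPolynomial.coe_eval₂Hom, MvPolynomial.eval₂_map, ← MvPolynomial.coe_eval₂Hom]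
    refine RingHom.congr_fun (f := fD.comp (Ideal.Quotient.mk J)) (MvPolynomial.ringHom_ext (fun u => ?_) fun i => ?_) z
    · rw [MvPolynomial.eval₂Hom_C]; exact hU u
    · rw [MvPolynomial.eval₂Hom_X']; rfl
  have hker : RingHom.ker (MvPolynomial.aeval (R := H) x).toRingHom ≤ RingHom.ker (MvPolynomial.eval₂Hom gH y) := by
    change RingHom.ker (MvPolynomial.aeval (R := H) x) ≤ _
    rw [← hG]
    refine Ideal.span_le.2 fun g hg => ?_
    rw [SetLike.mem_coe, RingHom.mem_ker, ← hg' g hg, ← hfev,
      Ideal.Quotient.eq_zero_iff_mem.2 (Ideal.subset_span ⟨⟨g, hg⟩, rfl⟩ : g' g hg ∈ J), map_zero]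
  let gC : C →+* T := RingHom.liftOfSurjective (MvPolynomial.aeval (R := H) x).toRingHom hx ⟨_, hker⟩
  have hgC : ∀ z : MvPolynomial (Fin n) H, gC (MvPolynomial.aeval x z) = MvPolynomial.eval₂Hom gH y z := fun z =>
    RingHom.liftOfRightInverse_comp_apply _ _ _ _ z
  have hψmap : ∀ z, ψ (Ideal.Quotient.mk J z) = MvPolynomial.aeval x (MvPolynomial.map ξ.toRingHom z) := fun z => by
    rw [hψ, MvPolynomial.coe_eval₂Hom, MvPolynomial.aeval_def, MvPolynomial.eval₂_map]
  refine ⟨gC, IsLocalization.ringHom_ext Q.primeCompl (RingHom.ext fun z => ?_), fun g₂ hg₂ => ?_⟩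
  · obtain ⟨z, rfl⟩ := Ideal.Quotient.mk_surjective z
    show gC (Ψ (algebraMap _ _ (Ideal.Quotient.mk J z))) = fD (Ideal.Quotient.mk J z)
    rw [show Ψ (algebraMap _ _ (Ideal.Quotient.mk J z)) = ψ (Ideal.Quotient.mk J z) from RingHom.congr_fun hΨ _,
      hψmap, hgC, ← hfev]
  · have hD : ∀ z, g₂ (ψ (Ideal.Quotient.mk J z)) = fD (Ideal.Quotient.mk J z) := fun z => by
      rw [show ψ (Ideal.Quotient.mk J z) = Ψ (algebraMap _ _ (Ideal.Quotient.mk J z)) from
        (RingHom.congr_fun hΨ _).symm]
      exact RingHom.congr_fun hg₂ _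
    have hg₂H : g₂.comp (algebraMap H C) = gH := by
      refine hgHu _ (IsLocalization.ringHom_ext p.primeCompl (RingHom.ext fun b => ?_))
      have h := hD (MvPolynomial.C (algebraMap B U b))
      rw [hψ, MvPolynomial.eval₂Hom_C, RingHom.comp_apply,
        show ξ.toRingHom (algebraMap B U b) = algebraMap B H b from ξ.commutes b] at h
      exact h.trans (RingHom.congr_fun hfp b).symm
    refine RingHom.ext fun c => ?_
    obtain ⟨z, rfl⟩ := hx c
    rw [hgC]
    refine RingHom.congr_fun (f := g₂.comp (MvPolynomial.aeval (R := H) x).toRingHom)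
      (MvPolynomial.ringHom_ext (fun h => ?_) fun i => ?_) z
    · rw [MvPolynomial.eval₂Hom_C, RingHom.comp_apply]
      simp only [AlgHom.toRingHom_eq_coe, RingHom.coe_coe, MvPolynomial.aeval_C]
      exact RingHom.congr_fun hg₂H h
    · rw [MvPolynomial.eval₂Hom_X', RingHom.comp_apply]
      simp only [AlgHom.toRingHom_eq_coe, RingHom.coe_coe, MvPolynomial.aeval_X]
      have h := hD (MvPolynomial.X i)
      rw [hψ, MvPolynomial.eval₂Hom_X'] at h
      exact h

/-- A finite local-target subalgebra over a henselian local ring is local. -/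
theorem isLocalRing_subalgebra {H C : Type u} [CommRing H] [HenselianLocalRing H] [CommRing C] [IsLocalRing C]
    [Algebra H C] (M : Subalgebra H C) [Module.Finite H M] : IsLocalRing M := by
  classical
  haveI : HenselianRing M ((maximalIdeal H).map (algebraMap H M)) := HenselLib.henselianRing_map_of_isIntegral
  haveI hjac : HenselianRing M (Ideal.jacobson (⊥ : Ideal M)) := HenselLib.henselianRing_of_le_radical
    (J := (maximalIdeal H).map (algebraMap H M)) (by
      rw [Ideal.radical_eq_sInf]
      refine le_sInf fun P ⟨hP, hPp⟩ => ?_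
      haveI := hPp
      haveI : (P.comap (algebraMap H M)).IsMaximal := by
        rw [← (IsLocalRing.maximalIdeal.isMaximal H).eq_of_le (Ideal.IsPrime.ne_top inferInstance) (Ideal.map_le_iff_le_comap.1 hP)]
        exact IsLocalRing.maximalIdeal.isMaximal H
      exact sInf_le ⟨bot_le, Ideal.isMaximal_of_isIntegral_of_isMaximal_comap (R := H) P ‹_›⟩)
  haveI := HenselLib.finite_maximalSpectrum (B := M) H
  letI := Fintype.ofFinite (MaximalSpectrum M)
  have hlift : ∀ b : M, b * b - b ∈ Ideal.jacobson (⊥ : Ideal M) →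
      ∃ d : M, IsIdempotentElem d ∧ d - b ∈ Ideal.jacobson (⊥ : Ideal M) := by
    intro b hb
    obtain ⟨d, hd, hdb⟩ := HenselianRing.is_henselian (I := Ideal.jacobson (⊥ : Ideal M))
      (Polynomial.X ^ 2 - Polynomial.X) (Polynomial.monic_X_pow_sub (by rw [Polynomial.degree_X]; norm_num)) b
      (by simpa [pow_two] using hb) (by
        have h2 : Ideal.Quotient.mk (Ideal.jacobson (⊥ : Ideal M)) (b * b - b) = 0 :=
          Ideal.Quotient.eq_zero_iff_mem.2 hb
        rw [map_sub, map_mul] at h2
        simp only [Polynomial.derivative_sub, Polynomial.derivative_X_pow, Polynomial.derivative_X,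
          Polynomial.eval_sub, Polynomial.eval_mul, Polynomial.eval_C, Polynomial.eval_pow, Polynomial.eval_X,
          Polynomial.eval_one]
        refine IsUnit.of_mul_eq_one (Ideal.Quotient.mk _ (2 * b - 1)) ?_
        rw [← map_mul, ← map_one (Ideal.Quotient.mk _), Ideal.Quotient.eq]
        convert Ideal.mul_mem_left _ (4 : M) hb using 1
        ring_nf)
    refine ⟨d, ?_, hdb⟩
    have := hd
    simp only [Polynomial.IsRoot, Polynomial.eval_sub, Polynomial.eval_mul, Polynomial.eval_X, sub_eq_zero, pow_two] at this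
    exact this
  obtain ⟨d, hco, hne, hself, -⟩ := HenselLib.exists_idem_maximal_family hlift
  haveI : Nontrivial M := ⟨⟨0, 1, fun h => zero_ne_one (congrArg Subtype.val h)⟩⟩
  refine IsLocalRing.of_unique_max_ideal ?_
  obtain ⟨N, hN⟩ := Ideal.exists_maximal M
  refine ⟨N, hN, fun N' hN' => ?_⟩
  by_contra hne'
  have h1 := hne ⟨N, hN⟩ ⟨N', hN'⟩ fun h => hne' (congrArg MaximalSpectrum.asIdeal h)
  have h2 := hself ⟨N, hN⟩
  have hid : ((d ⟨N, hN⟩ : M) : C) * (d ⟨N, hN⟩ : M) = (d ⟨N, hN⟩ : M) := congrArg Subtype.val (hco.idem ⟨N, hN⟩)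
  set e := d ⟨N, hN⟩
  rcases IsLocalRing.isUnit_or_isUnit_one_sub_self (e : C) with hu | hu
  · have : e = 1 := Subtype.ext (hu.mul_left_cancel (hid.trans (mul_one _).symm))
    rw [this] at h1
    exact hN'.ne_top ((Ideal.eq_top_iff_one _).2 h1)
  · have : e = 0 := Subtype.ext (hu.mul_left_cancel (show (1 - (e : C)) * (e : C) = (1 - (e : C)) * ((0 : M) : C) by simp [sub_mul, hid]))
    rw [this, sub_zero] at h2
    exact hN.ne_top ((Ideal.eq_top_iff_one _).2 h2)

set_option maxHeartbeats 1000000 in
/-- The converse: descent along an injective finite local homomorphism. -/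
theorem isEssHens_descend (A A' C : Type u) [CommRing A] [IsNoetherianRing A] [CommRing A'] [HenselianLocalRing A']
    [Algebra A A'] [CommRing C] [HenselianLocalRing C] [Algebra A C] [Algebra A' C] [IsScalarTower A A' C]
    [Module.Finite A' C] [IsLocalHom (algebraMap A' C)] (hinj : Function.Injective (algebraMap A' C))
    (hC : IsEssHens A C) : IsEssHens A A' := by
  classical
  obtain ⟨B₁, _, _, _, q, _, alg1, tow1, loc1, hens1⟩ := hC
  letI : Algebra B₁ C := ((algebraMap (Localization.AtPrime q) C).comp (algebraMap B₁ (Localization.AtPrime q))).toAlgebra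
  haveI : IsScalarTower A B₁ C := IsScalarTower.of_algebraMap_eq fun x => by
    rw [IsScalarTower.algebraMap_apply A (Localization.AtPrime q) C, IsScalarTower.algebraMap_apply A B₁ (Localization.AtPrime q)]
    rfl
  obtain ⟨t, ht⟩ := (Algebra.FiniteType.out : (⊤ : Subalgebra A B₁).FG)
  choose h hmon hroot using fun b : B₁ => Algebra.IsIntegral.isIntegral (R := A') (algebraMap B₁ C b)
  let s : Finset A' := t.biUnion fun b => (h b).coeffs
  let B : Subalgebra A A' := Algebra.adjoin A (s : Set A')
  haveI : Algebra.FiniteType A B := (Subalgebra.fg_iff_finiteType B).1 (Subalgebra.fg_adjoin_finset s)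
  let p : Ideal B := (maximalIdeal A').comap B.val.toRingHom
  haveI : p.IsPrime := Ideal.comap_isPrime _ _
  obtain ⟨F, hF, hFloc⟩ := exists_localHom p B.val.toRingHom rfl
  haveI : IsNoetherianRing B := Algebra.FiniteType.isNoetherianRing A B
  haveI : IsNoetherianRing (Localization.AtPrime p) := IsLocalization.isNoetherianRing p.primeCompl _ inferInstance
  obtain ⟨H, _, _, algH, locH, hensH⟩ : ∃ (H : Type u) (_ : CommRing H) (_ : IsLocalRing H)
      (_ : Algebra (Localization.AtPrime p) H) (_ : IsLocalHom (algebraMap (Localization.AtPrime p) H)),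
      Hensel.IsHenselization (Localization.AtPrime p) H :=
    ⟨HenselLib.HR (Localization.AtPrime p), inferInstance, inferInstance, inferInstance, inferInstance, inferInstance⟩
  haveI := hensH.henselian
  haveI : IsNoetherianRing H := (Groth.Agent.S0511.result (Localization.AtPrime p) H).1 inferInstance
  obtain ⟨g, hg, -⟩ := hensH.universal A' F hFloc
  letI algA : Algebra A H := ((algebraMap (Localization.AtPrime p) H).comp (algebraMap A (Localization.AtPrime p))).toAlgebra
  haveI : IsScalarTower A (Localization.AtPrime p) H := IsScalarTower.of_algebraMap_eq fun x => rfl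
  letI : Algebra H A' := g.toAlgebra
  letI : Algebra H C := ((algebraMap A' C).comp g).toAlgebra
  haveI : IsScalarTower H A' C := IsScalarTower.of_algebraMap_eq fun x => rfl
  have hgB : ∀ b : B, g (algebraMap (Localization.AtPrime p) H (algebraMap B (Localization.AtPrime p) b)) = (b : A') :=
    fun b => (RingHom.congr_fun hg _).trans (RingHom.congr_fun hF b)
  haveI : IsScalarTower A H A' := IsScalarTower.of_algebraMap_eq fun a => by
    rw [RingHom.algebraMap_toAlgebra, RingHom.algebraMap_toAlgebra, RingHom.comp_apply,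
      IsScalarTower.algebraMap_apply A B (Localization.AtPrime p), hgB]
    rfl
  haveI : IsScalarTower A H C := IsScalarTower.of_algebraMap_eq fun a => by
    rw [IsScalarTower.algebraMap_apply A A' C, IsScalarTower.algebraMap_apply A H A']
    rfl
  have hsH : ∀ z ∈ s, z ∈ g.range := fun z hz =>
    ⟨_, hgB ⟨z, Algebra.subset_adjoin hz⟩⟩
  have hint : ∀ b ∈ t, IsIntegral H (algebraMap B₁ C b) := by
    intro b hb
    have hl : h b ∈ Polynomial.lifts g := by
      rw [Polynomial.lifts_iff_coeff_lifts]
      intro j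
      by_cases hj : (h b).coeff j = 0
      · exact ⟨0, by rw [map_zero, hj]⟩
      · exact hsH _ (Finset.mem_biUnion.2 ⟨b, hb, Polynomial.coeff_mem_coeffs hj⟩)
    obtain ⟨h', hh', -, hm⟩ := Polynomial.lifts_and_degree_eq_and_monic hl (hmon b)
    refine ⟨h', hm, ?_⟩
    show Polynomial.eval₂ ((algebraMap A' C).comp g) _ h' = 0
    rw [← Polynomial.eval₂_map, hh']
    exact hroot b
  let M : Subalgebra H C := Algebra.adjoin H ((t.image (algebraMap B₁ C) : Finset C) : Set C)
  haveI : Module.Finite H M := Module.Finite.iff_fg.2 (fg_adjoin_of_finite (Finset.finite_toSet _) (by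
    intro x hx
    obtain ⟨b, hb, rfl⟩ := Finset.mem_image.1 (Finset.mem_coe.1 hx)
    exact hint b hb))
  haveI := isLocalRing_subalgebra M
  haveI := (QfHensFiniteLib.henselianLocalRing_of_finite (A := H) M).1
  have hBM : ∀ b : B₁, algebraMap B₁ C b ∈ M := by
    intro b
    have hb : b ∈ Algebra.adjoin A (t : Set B₁) := ht ▸ trivial
    induction hb using Algebra.adjoin_induction with
    | mem z hz => exact Algebra.subset_adjoin (Finset.mem_coe.2 (Finset.mem_image_of_mem _ hz))
    | algebraMap a =>
      rw [← IsScalarTower.algebraMap_apply A B₁ C, IsScalarTower.algebraMap_apply A H C]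
      exact M.algebraMap_mem _
    | add u v _ _ hu hv => rw [map_add]; exact add_mem hu hv
    | mul u v _ _ hu hv => rw [map_mul]; exact mul_mem hu hv
  let i₀ : B₁ →+* M := (algebraMap B₁ C).codRestrict M hBM
  have hMC : IsLocalHom M.val.toRingHom := by
    refine ((IsLocalRing.local_hom_TFAE M.val.toRingHom).out 0 4 :).2 (IsLocalRing.eq_maximalIdeal ?_)
    haveI : Algebra.IsIntegral H M := inferInstance
    refine Ideal.isMaximal_of_isIntegral_of_isMaximal_comap (R := H) _ ?_
    rw [Ideal.comap_comap, show M.val.toRingHom.comp (algebraMap H M) = algebraMap H C from RingHom.ext fun _ => rfl,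
      show algebraMap H C = (algebraMap A' C).comp g from rfl, ← Ideal.comap_comap,
      ((IsLocalRing.local_hom_TFAE (algebraMap A' C)).out 0 4 :).1 inferInstance]
    have hle : (maximalIdeal H) ≤ (maximalIdeal A').comap g := by
      rw [← Groth.Agent.S0507.result (Localization.AtPrime p) H, Ideal.map_le_iff_le_comap, Ideal.comap_comap, hg,
        ((IsLocalRing.local_hom_TFAE F).out 0 4 :).1 hFloc]
    rw [← (IsLocalRing.maximalIdeal.isMaximal H).eq_of_le (Ideal.comap_ne_top _
      (IsLocalRing.maximalIdeal.isMaximal A').ne_top) hle]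
    exact IsLocalRing.maximalIdeal.isMaximal H
  obtain ⟨i, hi, hiloc⟩ := exists_localHom q i₀ (by
    rw [← ((IsLocalRing.local_hom_TFAE M.val.toRingHom).out 0 4 :).1 hMC, Ideal.comap_comap]
    exact comap_atPrime q (algebraMap (Localization.AtPrime q) C))
  obtain ⟨u, hu, -⟩ := hens1.universal M i hiloc
  have hid : M.val.toRingHom.comp u = RingHom.id C := by
    refine (hens1.universal C (algebraMap (Localization.AtPrime q) C) loc1).unique ?_ (RingHom.id_comp _)
    rw [RingHom.comp_assoc, hu]
    refine IsLocalization.ringHom_ext q.primeCompl (RingHom.ext fun b => ?_)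
    simp only [RingHom.comp_apply]
    rw [show i (algebraMap B₁ (Localization.AtPrime q) b) = i₀ b from RingHom.congr_fun hi b]
    rfl
  haveI : Module.Finite H C := Module.Finite.of_surjective M.val.toLinearMap fun c =>
    ⟨u c, RingHom.congr_fun hid c⟩
  haveI : Module.Finite H A' := Module.Finite.of_injective (IsScalarTower.toAlgHom H A' C).toLinearMap hinj
  exact isEssHens_of_finite A H A'
    ⟨B, inferInstance, inferInstance, inferInstance, p, inferInstance, algH, inferInstance, locH, hensH⟩

end HensFiniteTransferLib
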